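import Mathlib

set_option autoImplicit false
universe u

open CategoryTheory AlgebraicGeometry

namespace Groth.Agent.RatMapD

/-- The canonical maps from the spectra of stalks into an open are compatible with specialization. -/
lemma specMap_stalkSpecializes_fromSpecStalkOfMem {X : Scheme.{u}} (U : X.Opens) {x y : X}
    (hxy : x ⤳ y) (hx : x ∈ U) (hy : y ∈ U) :
    Spec.map (X.presheaf.stalkSpecializes hxy) ≫ U.fromSpecStalkOfMem y hy =
      U.fromSpecStalkOfMem x hx := by
  rw [← cancel_mono U.ι]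
  simp only [Category.assoc, Scheme.Opens.fromSpecStalkOfMem_ι]
  exact Scheme.SpecMap_stalkSpecializes_fromSpecStalk hxy

/-- Cancellation from `Spec O_x ⟶ U` to `Spec O_{U,x} ⟶ U`. -/
lemma fromSpecStalk_comp_eq_of_fromSpecStalkOfMem_comp_eq {X Y : Scheme.{u}} (U : X.Opens) {x : X}
    (hx : x ∈ U) (a b : U.toScheme ⟶ Y)
    (h : U.fromSpecStalkOfMem x hx ≫ a = U.fromSpecStalkOfMem x hx ≫ b) :
    U.toScheme.fromSpecStalk ⟨x, hx⟩ ≫ a = U.toScheme.fromSpecStalk ⟨x, hx⟩ ≫ b := by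
  have e := congr(Spec.map (U.ι.stalkMap ⟨x, hx⟩) ≫ $h)
  simp only [Scheme.Opens.fromSpecStalkOfMem, Category.assoc] at e
  erw [← Spec.map_comp_assoc, IsIso.inv_hom_id, Spec.map_id, Category.id_comp] at e
  erw [← Spec.map_comp_assoc, IsIso.inv_hom_id, Spec.map_id, Category.id_comp] at e
  exact e

/-- Two morphisms into an affine open with equal maps on sections agree. -/
lemma ι_comp_eq_of_appLE_eq {X Y : Scheme.{u}} (f g : X ⟶ Y) {V : Y.Opens} (hV : IsAffineOpen V)
    {U : X.Opens} (hf : U ≤ f ⁻¹ᵁ V) (hg : U ≤ g ⁻¹ᵁ V) (h : f.appLE V U hf = g.appLE V U hg) :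
    U.ι ≫ f = U.ι ≫ g := by
  rw [← Scheme.Hom.resLE_comp_ι _ hf, ← Scheme.Hom.resLE_comp_ι _ hg]
  congr 1
  have : IsAffine V := hV
  suffices ∀ (U₀ : X.Opens) (V₀ : Y.Opens) (eU : U = U₀) (eV : V = V₀),
      f.appLE V₀ U₀ (eU ▸ eV ▸ hf) = g.appLE V₀ U₀ (eU ▸ eV ▸ hg) by
    rw [← cancel_mono V.toScheme.isoSpec.hom]
    simp only [Scheme.isoSpec, asIso_hom, Scheme.toSpecΓ_naturality,
      Scheme.Hom.app_eq_appLE, Scheme.Hom.resLE_appLE]
    congr 2
    apply this <;> simp
  rintro U V rfl rfl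
  exact h

/-- Morphisms over `S` into a scheme locally of finite type over `S` which agree on `Spec O_x`
agree near `x` (no hypothesis on the source). -/
lemma spread_out_unique_of_locallyOfFiniteType {X Y S : Scheme.{u}} (sY : Y ⟶ S)
    [LocallyOfFiniteType sY] {x : X} (f g : X ⟶ Y) (hfg : f ≫ sY = g ≫ sY)
    (e : X.fromSpecStalk x ≫ f = X.fromSpecStalk x ≫ g) :
    ∃ U : X.Opens, x ∈ U ∧ U.ι ≫ f = U.ι ≫ g := by
  classical
  have hxy : f x = g x := by
    have := congr($e (IsLocalRing.closedPoint _))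
    change f (X.fromSpecStalk x _) = g (X.fromSpecStalk x _) at this
    erw [Scheme.fromSpecStalk_closedPoint] at this
    exact this
  have hstalk : f.stalkMap x =
      Y.presheaf.stalkSpecializes (Inseparable.of_eq hxy.symm).specializes ≫ g.stalkMap x := by
    apply Spec.map_injective
    rw [← cancel_mono (Y.fromSpecStalk _)]
    simpa [Scheme.SpecMap_stalkSpecializes_fromSpecStalk] using e
  obtain ⟨O, hO, hxO, -⟩ :=
    exists_isAffineOpen_mem_and_subset (X := S) (x := sY (f x)) (U := ⊤) (by trivial)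
  obtain ⟨V, hV, hxV, hVO' ⟩ :=
    exists_isAffineOpen_mem_and_subset (X := Y) (x := f x) (U := sY ⁻¹ᵁ O) hxO
  have hVO : V ≤ sY ⁻¹ᵁ O := hVO' 
  have hxV' : g x ∈ V := hxy ▸ hxV
  obtain ⟨s, hs⟩ : (sY.appLE O V hVO).hom.FiniteType := sY.finiteType_appLE hO hV hVO
  let W : X.Opens := f ⁻¹ᵁ V ⊓ g ⁻¹ᵁ V
  have hxW : x ∈ W := ⟨hxV, hxV'⟩
  have hgerm : f.appLE V W inf_le_left ≫ X.presheaf.germ W x hxW =
      g.appLE V W inf_le_right ≫ X.presheaf.germ W x hxW := by
    rw [Scheme.Hom.appLE, Scheme.Hom.appLE, Category.assoc, Category.assoc]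
    erw [X.presheaf.germ_res', X.presheaf.germ_res']
    erw [← f.germ_stalkMap V x hxV, ← g.germ_stalkMap V x hxV', hstalk]
    simp only [TopCat.Presheaf.germ_stalkSpecializes_assoc]
  -- each generator agrees on some neighbourhood
  have hloc : ∀ a : Γ(Y, V), ∃ (W' : X.Opens) (_ : x ∈ W') (i : W' ≤ W),
      X.presheaf.map (homOfLE i).op (f.appLE V W inf_le_left a) =
        X.presheaf.map (homOfLE i).op (g.appLE V W inf_le_right a) := by
    intro a
    have := congr($hgerm a)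
    obtain ⟨W', hxW', i₁, i₂, h'⟩ := X.presheaf.germ_eq x hxW hxW _ _ this
    exact ⟨W', hxW', i₁.le, h'⟩
  choose W' hxW' hW'le hW' using hloc
  let U : X.Opens := s.inf W' ⊓ W
  have hxU : x ∈ U := by
    refine ⟨?_, hxW⟩
    rw [TopologicalSpace.Opens.coe_finset_inf]
    simpa using fun a _ ↦ hxW' a
  have hUW : U ≤ W := inf_le_right
  refine ⟨U, hxU, ι_comp_eq_of_appLE_eq f g hV (hUW.trans inf_le_left) (hUW.trans inf_le_right) ?_⟩
  have hbase : sY.appLE O V hVO ≫ f.appLE V U (hUW.trans inf_le_left) =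
      sY.appLE O V hVO ≫ g.appLE V U (hUW.trans inf_le_right) := by
    rw [Scheme.Hom.appLE_comp_appLE, Scheme.Hom.appLE_comp_appLE]
    congr 1
  let φf := (f.appLE V U (hUW.trans inf_le_left)).hom
  let φg := (g.appLE V U (hUW.trans inf_le_right)).hom
  let := (sY.appLE O V hVO).hom.toAlgebra
  let := (φg.comp (sY.appLE O V hVO).hom).toAlgebra
  let Af : Γ(Y, V) →ₐ[Γ(S, O)] Γ(X, U) :=
    { φf with commutes' := fun r ↦ congr($hbase r) }
  let Ag : Γ(Y, V) →ₐ[Γ(S, O)] Γ(X, U) :=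
    { φg with commutes' := fun r ↦ rfl }
  have : Af = Ag := by
    refine AlgHom.ext_of_adjoin_eq_top hs ?_
    intro a ha
    change f.appLE V U _ a = g.appLE V U _ a
    have hUa : U ≤ W' a := inf_le_left.trans (Finset.inf_le ha)
    have := congr(X.presheaf.map (homOfLE hUa).op $(hW' a))
    simp only [← CommRingCat.comp_apply, Scheme.Hom.appLE_map] at this
    simpa only [← CommRingCat.comp_apply, ← Functor.map_comp, Scheme.Hom.appLE_map] using this
  ext a
  exact congr($this a)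

end Groth.Agent.RatMapD
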